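import Groth.Agent.SmDefLib.ArtSetup
import Groth.Agent.LiftHomLib.Main
import Groth.Agent.DefClassLib.Basic
import Groth.Agent.FittLib.Generated
import Groth.Agent.KFlatLib.PerfectPull
import Groth.Agent.GorBlowLib.Omega
import Groth.Agent.CurvLib.EulerTensor
import Mathlib.RingTheory.Flat.EquationalCriterion

/-!
# The ideal of a semismall thickening is free on the closed fibre
-/

set_option autoImplicit false
set_option linter.style.haveILetI false
set_option linter.unusedSectionVars false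
set_option backward.isDefEq.respectTransparency false
set_option maxHeartbeats 1000000
universe u

open CategoryTheory CategoryTheory.Limits AlgebraicGeometry TopologicalSpace Opposite
open ArtFun ArtFun.Art
open HilbGlueLib (val val_add val_smul val_mem exists_val val_res)

noncomputable section

namespace LiftThinLib

variable {k : Type u} [Field k] {X₀ : Scheme.{u}} {x : X₀ ⟶ specPt k} {B A : Art k k} (p : B ⟶ A)
  (ξ : DefSch X₀ x B)

/-- The thickening. -/
abbrev ιT : pullback ξ.f (specMap p) ⟶ ξ.total := pullback.fst ξ.f (specMap p)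

/-- Its ideal. -/
abbrev idT : ξ.total.IdealSheafData := (ιT p ξ).ker

theorem isClosedImmersion_ιT (hp : IsSemismallExt p) : IsClosedImmersion (ιT p ξ) :=
  MorphismProperty.pullback_fst _ _ (SmDefLib.isClosedImmersion_specMap p hp)

instance isClosedImmersion_i : IsClosedImmersion ξ.i :=
  MorphismProperty.of_isPullback ξ.isPullback.flip (SmDefLib.isClosedImmersion_specRes B)

/-- The structure map on an open. -/
def phi (U : ξ.total.Opens) : (B : Type u) →+* Γ(ξ.total, U) :=
  (ξ.f.appLE ⊤ U le_top).hom.comp (Scheme.ΓSpecIso (CommRingCat.of B)).inv.hom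

theorem phi_res {U V : ξ.total.Opens} (h : V ≤ U) (b : B) :
    ξ.total.presheaf.map (homOfLE h).op (phi ξ U b) = phi ξ V b :=
  congr($(Scheme.Hom.appLE_map ξ.f (le_top : U ≤ ξ.f ⁻¹ᵁ ⊤) (homOfLE h).op) _)

theorem map_phi {U : ξ.total.Opens} (J : Ideal (B : Type u)) (J' : Ideal Γ(Spec (CommRingCat.of B), ⊤))
    (h : ∀ r, r ∈ J' ↔ (Scheme.ΓSpecIso (CommRingCat.of B)).hom r ∈ J) :
    J'.map (ξ.f.appLE ⊤ U le_top).hom = J.map (phi ξ U) := by
  rw [phi, ← Ideal.map_map]
  congr 1
  let e := (Scheme.ΓSpecIso (CommRingCat.of B)).commRingCatIsoToRingEquiv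
  show J' = J.map (e.symm : (B : Type u) →+* Γ(Spec (CommRingCat.of B), ⊤))
  refine Ideal.ext fun r => ?_
  rw [h r]
  exact (Ideal.mem_map_of_equiv e.symm r).trans ⟨fun ⟨b, hb, e'⟩ => by
    rw [← e']; convert hb using 1; exact congr($((Scheme.ΓSpecIso (CommRingCat.of B)).inv_hom_id) b),
    fun hr => ⟨_, hr, e.symm_apply_apply r⟩⟩ |>.symm

theorem ideal_idT (hp : IsSemismallExt p) {U : ξ.total.Opens} (hU : IsAffineOpen U) :
    (idT p ξ).ideal ⟨U, hU⟩ = (RingHom.ker p.toAlgHom).map (phi ξ U) := by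
  haveI : IsClosedImmersion (specMap p) := SmDefLib.isClosedImmersion_specMap p hp
  have h1 := FComplLib.ker_of_isPullback (IsPullback.of_hasPullback ξ.f (specMap p))
  have h2 := RGFlatLib.ideal_comap_appLE ξ.f (specMap p).ker (isAffineOpen_top _) hU (le_top : U ≤ ξ.f ⁻¹ᵁ ⊤)
  rw [idT, h1, ← h2]
  exact map_phi ξ _ _ fun r => SmDefLib.mem_ideal_ker _ r

theorem ideal_ker_i {U : ξ.total.Opens} (hU : IsAffineOpen U) :
    ξ.i.ker.ideal ⟨U, hU⟩ = (IsLocalRing.maximalIdeal B).map (phi ξ U) := by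
  haveI : IsClosedImmersion (specRes B) := SmDefLib.isClosedImmersion_specRes B
  have h1 := FComplLib.ker_of_isPullback ξ.isPullback
  have h2 := RGFlatLib.ideal_comap_appLE ξ.f (specRes B).ker (isAffineOpen_top _) hU (le_top : U ≤ ξ.f ⁻¹ᵁ ⊤)
  rw [h1, ← h2]
  exact map_phi ξ _ _ fun r => (SmDefLib.mem_ideal_ker (SmDefLib.artRes B) r).trans (mem_maximalIdeal_iff B _).symm

theorem flat_phi {U : ξ.total.Opens} (hU : IsAffineOpen U) : (phi ξ U).Flat :=
  RingHom.Flat.comp (RingHom.Flat.of_bijective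
      (ConcreteCategory.bijective_of_isIso (Scheme.ΓSpecIso (CommRingCat.of B)).inv))
    (ξ.f.flat_appLE (isAffineOpen_top _) hU le_top)

theorem ker_le_maximalIdeal : RingHom.ker p.toAlgHom ≤ IsLocalRing.maximalIdeal B := fun a ha => by
  rw [mem_maximalIdeal_iff, ← show A.res (p.toAlgHom a) = B.res a from congr($(p.res_comp) a),
    RingHom.mem_ker.1 ha, map_zero]

theorem sq_idT (hp : IsSemismallExt p) : idT p ξ ^ 2 = ⊥ := by
  refine Scheme.IdealSheafData.ext (funext fun U => ?_)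
  rw [Scheme.IdealSheafData.ideal_pow, Pi.pow_apply, ideal_idT p ξ hp U.2, pow_two, ← Ideal.map_mul]
  have h : RingHom.ker p.toAlgHom * RingHom.ker p.toAlgHom = ⊥ :=
    le_bot_iff.1 ((Ideal.mul_mono_left (ker_le_maximalIdeal p)).trans hp.2.le)
  rw [h, Ideal.map_bot]
  rfl

theorem killed_idT (hp : IsSemismallExt p) :
    ClSub.KilledByIdeal ξ.i.ker (ClSub.idealMod (idT p ξ)) := fun U a ha m => by
  refine HilbObsTh.val_injective (idT p ξ) U.1 ((val_smul U.1 a m).trans ?_)
  have hm : val (idT p ξ) U.1 m ∈ (idT p ξ).ideal U := val_mem U m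
  rw [ideal_idT p ξ hp U.2] at hm
  rw [ideal_ker_i ξ U.2] at ha
  have h := Ideal.mul_mem_mul ha hm
  rw [← Ideal.map_mul, hp.2, Ideal.map_bot] at h
  exact ((Submodule.mem_bot _).1 h).trans (map_zero ((ClSub.idealModι (idT p ξ)).app U.1).hom).symm

theorem kil_idT (hp : IsSemismallExt p) : CycKSuppLib.Kil ξ.i (ClSub.idealMod (idT p ξ)) :=
  CycKSuppLib.kil_of_killed _ (killed_idT p ξ hp)

theorem exists_gen (hp : IsSemismallExt p) (i : Fin (HilbObsTh.kdim p)) :
    ∃ s : Γ(ClSub.idealMod (idT p ξ), (⊤ : ξ.total.Opens)),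
      val (idT p ξ) ⊤ s = phi ξ ⊤ (HilbObsTh.kbasis p i : B) := by
  haveI := isClosedImmersion_ιT p ξ hp
  let I := idT p ξ
  let s : Γ(ξ.total, ⊤) := phi ξ ⊤ (HilbObsTh.kbasis p i : B)
  have h1 : I.subschemeι.app ⊤ s = 0 := by
    refine TopCat.Presheaf.section_ext I.subscheme.sheaf _ _ _ fun z hz => ?_
    obtain ⟨U, hU, hzU, -⟩ := Opens.isBasis_iff_nbhd.mp ξ.total.isBasis_affineOpens
      (show I.subschemeι z ∈ (⊤ : ξ.total.Opens) from trivial)
    have hs : ξ.total.presheaf.map (homOfLE (le_top : U ≤ ⊤)).op s ∈ I.ideal ⟨U, hU⟩ := by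
      rw [ideal_idT p ξ hp hU, phi_res]
      exact Ideal.mem_map_of_mem _ (HilbObsTh.kbasis p i).2
    have hs' : I.subschemeι.app U (ξ.total.presheaf.map (homOfLE (le_top : U ≤ ⊤)).op s) = 0 :=
      (GenFlatStrat.subschemeι_app_eq_zero_iff I ⟨U, hU⟩ _).mpr hs
    have hn : I.subscheme.presheaf.map ((Opens.map I.subschemeι.base).map (homOfLE (le_top : U ≤ ⊤))).op
        (I.subschemeι.app ⊤ s) = 0 :=
      (congr($(I.subschemeι.naturality (homOfLE (le_top : U ≤ ⊤)).op) s)).symm.trans hs'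
    have h := congrArg (I.subscheme.presheaf.germ (I.subschemeι ⁻¹ᵁ U) z hzU) hn
    rw [map_zero, TopCat.Presheaf.germ_res_apply] at h
    refine h.trans (map_zero _).symm
  obtain ⟨t, ht⟩ := QCohLib.exists_of_app_eq_zero
    (S := ShortComplex.mk (ClSub.idealModι I) (ClSub.toSubscheme I) (kernel.condition _))
    (ShortComplex.exact_of_f_is_kernel _ (kernelIsKernel _))
    (inferInstanceAs (Mono (kernel.ι _))) (U := ⊤) (show Γ(Coh.structureModule ξ.total, ⊤) from s) h1
  exact ⟨t, ht⟩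

/-- The generators of the ideal. -/
def gen (hp : IsSemismallExt p) (i : Fin (HilbObsTh.kdim p)) :
    Γ(ClSub.idealMod (idT p ξ), (⊤ : ξ.total.Opens)) := (exists_gen p ξ hp i).choose

/-- The map from the free module onto the ideal. -/
def toIdeal (hp : IsSemismallExt p) :
    FlatMod.freeMod ξ.total (HilbObsTh.kdim p) ⟶ ClSub.idealMod (idT p ξ) :=
  Sigma.desc fun i => (KFlatLib.unitSecEquiv _).symm (gen p ξ hp i)

theorem val_toIdeal (hp : IsSemismallExt p) (U : ξ.total.Opens)
    (e : Γ(FlatMod.freeMod ξ.total (HilbObsTh.kdim p), U)) :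
    val (idT p ξ) U ((toIdeal p ξ hp).app U e) =
      ∑ j, FittLib.coord e j * phi ξ U (HilbObsTh.kbasis p j : B) := by
  conv_lhs => rw [FittLib.sum_coord e]
  let L : Γ(FlatMod.freeMod ξ.total (HilbObsTh.kdim p), U) →+ Γ(ξ.total, U) :=
    AddMonoidHom.mk' (fun e => val (idT p ξ) U ((toIdeal p ξ hp).app U e)) fun a b => by
      rw [map_add, val_add]
  refine (map_sum L _ _).trans (Finset.sum_congr rfl fun j _ => ?_)
  show val (idT p ξ) U ((toIdeal p ξ hp).app U (FittLib.coord e j • FittLib.stdSec _ _ U j)) = _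
  refine (congrArg (val (idT p ξ) U) (QCohLib.app_smul (toIdeal p ξ hp) U _ _)).trans ((val_smul U _ _).trans ?_)
  congr 1
  let φ := (KFlatLib.unitSecEquiv (ClSub.idealMod (idT p ξ))).symm (gen p ξ hp j)
  have h1 : (toIdeal p ξ hp).app U (FittLib.stdSec _ _ U j) = φ.app U (1 : Γ(ξ.total, U)) :=
    congr($(Sigma.ι_desc (fun i => (KFlatLib.unitSecEquiv (ClSub.idealMod (idT p ξ))).symm (gen p ξ hp i)) j).app U
      (1 : Γ(ξ.total, U)))
  have h2 : φ.app U (1 : Γ(ξ.total, U)) =
      (ClSub.idealMod (idT p ξ)).presheaf.map (homOfLE le_top).op (gen p ξ hp j) := by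
    have h := QCohLib.app_map φ (homOfLE (le_top : U ≤ ⊤)) (1 : Γ(ξ.total, ⊤))
    have h1' : φ.app ⊤ (1 : Γ(ξ.total, ⊤)) = gen p ξ hp j :=
      (KFlatLib.unitSecEquiv (ClSub.idealMod (idT p ξ))).apply_symm_apply (gen p ξ hp j)
    rw [← h1']
    refine Eq.trans ?_ h
    exact congrArg (φ.app U) (map_one (ξ.total.presheaf.map (homOfLE (le_top : U ≤ ⊤)).op).hom).symm
  rw [h1, h2, val_res, gen, (exists_gen p ξ hp j).choose_spec, phi_res]

theorem toIdeal_surjective (hp : IsSemismallExt p) {U : ξ.total.Opens} (hU : IsAffineOpen U) :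
    Function.Surjective ((toIdeal p ξ hp).app U) := fun m => by
  have hm : val (idT p ξ) U m ∈ (idT p ξ).ideal ⟨U, hU⟩ := val_mem ⟨U, hU⟩ m
  suffices h : ∀ a ∈ (idT p ξ).ideal ⟨U, hU⟩,
      ∃ z : Fin (HilbObsTh.kdim p) → Γ(ξ.total, U), ∑ j, z j * phi ξ U (HilbObsTh.kbasis p j : B) = a by
    obtain ⟨z, hz⟩ := h _ hm
    refine ⟨∑ j, z j • FittLib.stdSec _ _ U j, HilbObsTh.val_injective _ U ?_⟩
    exact (val_toIdeal p ξ hp U _).trans ((Finset.sum_congr rfl fun j _ => by rw [FittLib.coord_sum_smul]).trans hz)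
  intro a ha
  rw [ideal_idT p ξ hp hU] at ha
  induction ha using Submodule.span_induction with
  | mem a ha =>
    obtain ⟨b, hb, rfl⟩ := ha
    refine ⟨fun j => phi ξ U (algebraMap k B ((HilbObsTh.kbasis p).repr ⟨b, hb⟩ j)), ?_⟩
    have h := congrArg Subtype.val ((HilbObsTh.kbasis p).sum_repr ⟨b, hb⟩)
    rw [Submodule.coe_sum] at h
    refine ((Finset.sum_congr rfl fun j _ => ?_).trans (map_sum (phi ξ U) _ _).symm).trans (congrArg (phi ξ U) h)
    exact (map_mul (phi ξ U) _ _).symm.trans (congrArg _ (Algebra.smul_def _ _).symm)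
  | zero => exact ⟨0, by simp⟩
  | add a a' _ _ ha ha' =>
    obtain ⟨z, rfl⟩ := ha
    obtain ⟨z', rfl⟩ := ha'
    exact ⟨z + z', by simp [add_mul, Finset.sum_add_distrib]⟩
  | smul r a _ ha =>
    obtain ⟨z, rfl⟩ := ha
    exact ⟨fun j => r * z j, by simp [Finset.mul_sum, mul_assoc]⟩

theorem coord_mem_of_eq_zero (hp : IsSemismallExt p) {U : ξ.total.Opens} (hU : IsAffineOpen U)
    (e : Γ(FlatMod.freeMod ξ.total (HilbObsTh.kdim p), U)) (he : (toIdeal p ξ hp).app U e = 0)
    (j : Fin (HilbObsTh.kdim p)) : FittLib.coord e j ∈ (IsLocalRing.maximalIdeal B).map (phi ξ U) := by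
  letI : Algebra B Γ(ξ.total, U) := (phi ξ U).toAlgebra
  haveI : Module.Flat B Γ(ξ.total, U) := flat_phi ξ hU
  have h0 : ∑ i, (HilbObsTh.kbasis p i : B) • FittLib.coord e i = 0 := by
    refine Eq.trans ?_ ((val_toIdeal p ξ hp U e).symm.trans ((congrArg (val (idT p ξ) U) he).trans
      (map_zero ((ClSub.idealModι (idT p ξ)).app U).hom)))
    exact Finset.sum_congr rfl fun i _ => (Algebra.smul_def _ _).trans (mul_comm _ _)
  obtain ⟨l, a, y, hy, ha⟩ := Module.Flat.isTrivialRelation_of_sum_smul_eq_zero (R := (B : Type u)) (M := Γ(ξ.total, U))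
    (f := fun i => (HilbObsTh.kbasis p i : B)) (x := fun i => FittLib.coord e i) h0
  rw [show FittLib.coord e j = _ from hy j]
  refine Ideal.sum_mem _ fun m _ => ?_
  rw [Algebra.smul_def]
  refine Ideal.mul_mem_right _ _ (Ideal.mem_map_of_mem _ ?_)
  rw [mem_maximalIdeal_iff]
  have h1 : ∑ i, B.res (a i m) • HilbObsTh.kbasis p i = 0 := Subtype.ext (by
    rw [Submodule.coe_sum]
    refine (Finset.sum_congr rfl fun i _ => ?_).trans (ha m)
    refine (Algebra.smul_def _ _).trans ?_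
    rw [mul_comm (HilbObsTh.kbasis p i : B), eq_comm, ← sub_eq_zero, ← sub_mul]
    have hm : a i m - algebraMap k B (B.res (a i m)) ∈ IsLocalRing.maximalIdeal B := by
      rw [mem_maximalIdeal_iff, map_sub, B.res.commutes]
      exact sub_self _
    have h := Ideal.mul_mem_mul hm (HilbObsTh.kbasis p i).2
    rw [hp.2] at h
    exact (Submodule.mem_bot _).1 h)
  exact Fintype.linearIndependent_iff.1 (HilbObsTh.kbasis p).linearIndependent _ h1 j

/-- The ideal restricted to the closed fibre is free. -/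
theorem nonempty_pull_idT (hp : IsSemismallExt p) :
    Nonempty (FlatMod.freeMod X₀ (HilbObsTh.kdim p) ≅
      (Scheme.Modules.pullback ξ.i).obj (ClSub.idealMod (idT p ξ))) := by
  let g := toIdeal p ξ hp
  let K := ClSub.idealMod (idT p ξ)
  haveI : Coh.IsQCoh (FlatMod.freeMod ξ.total (HilbObsTh.kdim p)) := CurvLib.isQCoh_freeMod _ _
  haveI : IsIso ((Scheme.Modules.pullbackPushforwardAdjunction ξ.i).unit.app K) :=
    DevissLib.isIso_unit_of_killed ξ.i (killed_idT p ξ hp)
  let h := (Scheme.Modules.pushforward ξ.i).map ((Scheme.Modules.pullback ξ.i).map g)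
  have hb : ∀ V : ξ.total.affineOpens, Function.Bijective (h.app V.1) := fun V => by
    have hK : Function.Bijective (((Scheme.Modules.pullbackPushforwardAdjunction ξ.i).unit.app K).app V.1) :=
      ConcreteCategory.bijective_of_isIso _
    constructor
    · rw [injective_iff_map_eq_zero]
      intro w hw
      obtain ⟨e, rfl⟩ := DefClassLib.unit_app_surjective ξ.i _ V.2 w
      have hge : g.app V.1 e = 0 := hK.1 (by
        rw [map_zero]
        exact (KFlatLib.puSec_natural ξ.i g e).symm.trans hw)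
      show KFlatLib.puSec ξ.i e = 0
      rw [FittLib.sum_coord e]
      refine (map_sum (((Scheme.Modules.pullbackPushforwardAdjunction ξ.i).unit.app _).app V.1).hom _ _).trans
        (Finset.sum_eq_zero fun j _ => ?_)
      refine (KFlatLib.puSec_smul ξ.i (FittLib.coord e j) _).trans ?_
      have hj := coord_mem_of_eq_zero p ξ hp V.2 e hge j
      rw [← ideal_ker_i ξ V.2, Scheme.Hom.ker_apply, RingHom.mem_ker] at hj
      rw [hj, zero_smul]
    · intro w
      obtain ⟨m, rfl⟩ := hK.2 w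
      obtain ⟨e, rfl⟩ := toIdeal_surjective p ξ hp V.2 m
      exact ⟨KFlatLib.puSec ξ.i e, KFlatLib.puSec_natural ξ.i g e⟩
  haveI : Mono h := DefClassLib.mono_of_affines h fun V => (hb V).1
  haveI : Epi h := DefClassLib.epi_of_affines h fun V => (hb V).2
  haveI : IsIso h := isIso_of_mono_of_epi h
  haveI : IsIso ((Scheme.Modules.pullback ξ.i).map g) := isIso_of_reflects_iso _ (Scheme.Modules.pushforward ξ.i)
  exact ⟨(KFlatLib.pullFreeIso ξ.i _).symm ≪≫ asIso ((Scheme.Modules.pullback ξ.i).map g)⟩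

end LiftThinLib
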