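import Groth.Agent.LiftThinLib.Free
import Groth.Agent.PnDualLib.HomExtAdd

/-!
# Uniqueness of deformations of vector bundles without infinitesimal endomorphism classes
-/

set_option autoImplicit false
set_option linter.style.haveILetI false
set_option linter.unusedSectionVars false
set_option backward.isDefEq.respectTransparency false
set_option maxHeartbeats 1000000
universe u

open CategoryTheory CategoryTheory.Limits AlgebraicGeometry TopologicalSpace Opposite
open CategoryTheory.Abelian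

noncomputable section

namespace LiftThinLib

section Abs

variable {X Z : Scheme.{u}} (c : Z ⟶ X) [IsClosedImmersion c]

/-- Morphisms out of a vector bundle lift along extensions by a pushed forward module without `Ext¹`. -/
theorem exists_lift {S : ShortComplex X.Modules} (hS : S.ShortExact) {W : Z.Modules}
    (eW : S.X₁ ≅ (Scheme.Modules.pushforward c).obj W) {E : X.Modules} (hE : FlatMod.IsFinLocFree E)
    [HasExt.{u} Z.Modules] (h1 : Subsingleton (Ext.{u} ((Scheme.Modules.pullback c).obj E) W 1))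
    (t : E ⟶ S.X₃) : ∃ u : E ⟶ S.X₂, u ≫ S.g = t := by
  haveI := hS.mono_f
  haveI := hS.epi_g
  let a := eW.inv ≫ S.f
  haveI : Mono a := inferInstanceAs (Mono (eW.inv ≫ S.f))
  let j : (Scheme.Modules.pushforward c).obj W ⟶ pullback S.g t :=
    pullback.lift a 0 (by rw [zero_comp, Category.assoc, S.zero, comp_zero])
  have hj : j ≫ pullback.snd S.g t = 0 := pullback.lift_snd _ _ _
  haveI : Mono j := mono_of_mono_fac (pullback.lift_fst _ _ _ : j ≫ pullback.fst S.g t = a)
  let P := ShortComplex.mk j (pullback.snd S.g t) hj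
  have hP : P.ShortExact :=
    { exact := P.exact_of_f_is_kernel (KernelFork.IsLimit.ofι' j hj fun {V} m hm => by
        have hm' : (m ≫ pullback.fst S.g t) ≫ S.g = 0 := by
          rw [Category.assoc, pullback.condition, reassoc_of% hm, zero_comp]
        let l := KernelFork.IsLimit.lift' hS.fIsKernel _ hm'
        refine ⟨l.1 ≫ eW.hom, pullback.hom_ext ?_ ?_⟩
        · rw [Category.assoc, pullback.lift_fst, Category.assoc, Iso.hom_inv_id_assoc]
          exact l.2
        · rw [Category.assoc, pullback.lift_snd, comp_zero, hm])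
      mono_f := inferInstanceAs (Mono j)
      epi_g := inferInstanceAs (Epi (pullback.snd S.g t)) }
  let adj := Scheme.Modules.pullbackPushforwardAdjunction c
  haveI : (Scheme.Modules.pullback c).IsLeftAdjoint := adj.isLeftAdjoint
  haveI : (Scheme.Modules.pullback c).Additive := adj.left_adjoint_additive
  have hP' := VBResLib.shortExact_pullback_of_vb c hP hE
  haveI := CycKSuppLib.isIso_counit c W
  have hz : hP'.extClass.comp (Ext.mk₀ (adj.counit.app W)) (add_zero 1) = 0 := @Subsingleton.elim _ h1 _ _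
  obtain ⟨y, hy⟩ := Ext.contravariant_sequence_exact₁ hP' _ (Ext.mk₀ (adj.counit.app W)) (add_zero 1) hz
  obtain ⟨r, rfl⟩ := (Ext.mk₀_bijective _ _).2 y
  rw [Ext.mk₀_comp_mk₀] at hy
  have hr : (Scheme.Modules.pullback c).map j ≫ r = adj.counit.app W := (Ext.mk₀_bijective _ _).1 hy
  have hr' : j ≫ adj.homEquiv _ _ r = 𝟙 _ := by
    refine ((adj.homEquiv_naturality_left j r).symm).trans ?_
    rw [hr]
    exact (adj.homEquiv_unit _ _ _).trans (adj.right_triangle_components _)
  let σ := ShortComplex.Splitting.ofExactOfRetraction P hP.exact (adj.homEquiv _ _ r) hr' hP.epi_g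
  refine ⟨σ.s ≫ pullback.fst S.g t, ?_⟩
  rw [Category.assoc, pullback.condition]
  erw [reassoc_of% σ.s_g]

/-- `Ext¹` into a tensor with a free module. -/
theorem subsingleton_ext_tensor_free (F : Z.Modules) (n : ℕ) [HasExt.{u} Z.Modules]
    (h : Subsingleton (Ext.{u} F F 1)) :
    Subsingleton (Ext.{u} F (((DCoh.tensorBi (X := Z)).obj F).obj (FlatMod.freeMod Z n)) 1) := by
  classical
  let L := fun _ : Fin n => Coh.structureModule Z
  let T := (DCoh.tensorBi (X := Z)).obj F
  let π : ∀ j, FlatMod.freeMod Z n ⟶ Coh.structureModule Z := fun j =>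
    Sigma.desc fun i => if i = j then 𝟙 _ else 0
  have hid : ∑ j, π j ≫ Sigma.ι L j = 𝟙 (∐ L) := by
    refine Sigma.hom_ext _ _ fun i => ?_
    rw [Preadditive.comp_sum, Finset.sum_eq_single i]
    · simp [π]; rfl
    · intro j _ hj
      rw [Sigma.ι_desc_assoc, if_neg hj.symm, zero_comp]
    · simp
  let e : T.obj (Coh.structureModule Z) ≅ F :=
    KFlatLib.tensSwap (Coh.structureModule Z) F ≪≫ KFlatLib.tensUnitIso F
  suffices h0 : ∀ z : Ext.{u} F (T.obj (FlatMod.freeMod Z n)) 1, z = 0 from ⟨fun a b => by rw [h0 a, h0 b]⟩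
  intro z
  have hid' : ∑ j, T.map (π j ≫ Sigma.ι L j) = 𝟙 (T.obj (∐ L)) := by
    rw [← Functor.map_sum, hid, CategoryTheory.Functor.map_id]
  rw [← Ext.comp_mk₀_id z, show 𝟙 (T.obj (FlatMod.freeMod Z n)) = _ from hid'.symm, Ext.mk₀_sum, Ext.comp_sum]
  refine Finset.sum_eq_zero fun j _ => ?_
  rw [Functor.map_comp, show T.map (π j) ≫ T.map (Sigma.ι L j) =
    (T.map (π j) ≫ e.hom) ≫ (e.inv ≫ T.map (Sigma.ι L j)) by simp]
  rw [← Ext.mk₀_comp_mk₀, ← Ext.comp_assoc_of_second_deg_zero,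
    @Subsingleton.elim _ h (z.comp (Ext.mk₀ (T.map (π j) ≫ e.hom)) (add_zero 1)) 0, Ext.zero_comp]

/-- Pullback along an isomorphism reflects isomorphism of modules. -/
theorem nonempty_iso_of_pullback_iso {X' : Scheme.{u}} (w : X' ⟶ X) [IsIso w] {M N : X.Modules}
    (e : (Scheme.Modules.pullback w).obj M ≅ (Scheme.Modules.pullback w).obj N) : Nonempty (M ≅ N) :=
  let P := fun L : X.Modules => (Scheme.Modules.pullbackComp (inv w) w).app L ≪≫
    (Scheme.Modules.pullbackCongr (IsIso.inv_hom_id w)).app L ≪≫ (Scheme.Modules.pullbackId X).app L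
  ⟨(P M).symm ≪≫ (Scheme.Modules.pullback (inv w)).mapIso e ≪≫ P N⟩

end Abs

open ArtFun ArtFun.Art

variable {k : Type u} [Field k] {X₀ : Scheme.{u}} {x : X₀ ⟶ specPt k} {B A : Art k k} (p : B ⟶ A)
  (hp : IsSemismallExt p) (ξ : DefSch X₀ x B)

include hp in
theorem exists_hom_lift [HasExt.{u} X₀.Modules] {E F : ξ.total.Modules} (hE : FlatMod.IsFinLocFree E)
    (hF : FlatMod.IsFinLocFree F) {F₀ : X₀.Modules}
    (eE : (Scheme.Modules.pullback ξ.i).obj E ≅ F₀) (eF : (Scheme.Modules.pullback ξ.i).obj F ≅ F₀)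
    (h1 : Subsingleton (Ext.{u} F₀ F₀ 1))
    (u₀ : (Scheme.Modules.pullback (idT p ξ).subschemeι).obj E ⟶
      (Scheme.Modules.pullback (idT p ξ).subschemeι).obj F) :
    ∃ u : E ⟶ F, (Scheme.Modules.pullback (idT p ξ).subschemeι).map u = u₀ := by
  let I := idT p ξ
  let T := ((DCoh.tensorBi (X := ξ.total)).obj F).obj (ClSub.idealMod I)
  obtain ⟨a, φ, w, hS⟩ := LiftHomLib.exists_seq I F (sq_idT p ξ hp) hF
  have hk : CycKSuppLib.Kil ξ.i T :=
    (LiftHomLib.kil_tensor ξ.i F (kil_idT p ξ hp)).of_iso (KFlatLib.tensSwap _ _)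
  have hk₀ : CycKSuppLib.Kil I.subschemeι T :=
    (LiftHomLib.kil_tensor _ F (LiftHomLib.kil_idealMod I (sq_idT p ξ hp))).of_iso (KFlatLib.tensSwap _ _)
  haveI := KFlatLib.isIso_pullθ I.subschemeι F (ClSub.idealMod I)
  let eN : LiftHomLib.coeff I F ≅ (Scheme.Modules.pullback I.subschemeι).obj T :=
    KFlatLib.tensSwap _ _ ≪≫
      (@asIso _ _ _ _ (KFlatLib.pullθ I.subschemeι F (ClSub.idealMod I)) this).symm
  obtain ⟨eK⟩ := nonempty_pull_idT p ξ hp
  let W := ((DCoh.tensorBi (X := X₀)).obj F₀).obj (FlatMod.freeMod X₀ (HilbObsTh.kdim p))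
  haveI := KFlatLib.isIso_pullθ ξ.i F (ClSub.idealMod I)
  let eT : (Scheme.Modules.pullback ξ.i).obj T ≅ W :=
    @asIso _ _ _ _ (KFlatLib.pullθ ξ.i F (ClSub.idealMod I)) this ≪≫
      ((DCoh.tensorBi (X := X₀)).mapIso eF).app _ ≪≫ ((DCoh.tensorBi (X := X₀)).obj F₀).mapIso eK.symm
  let eW : (Scheme.Modules.pushforward I.subschemeι).obj (LiftHomLib.coeff I F) ≅
      (Scheme.Modules.pushforward ξ.i).obj W :=
    (Scheme.Modules.pushforward I.subschemeι).mapIso eN ≪≫ CycKSuppLib.pushPullIso _ hk₀ ≪≫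
      (CycKSuppLib.pushPullIso ξ.i hk).symm ≪≫ (Scheme.Modules.pushforward ξ.i).mapIso eT
  have h2 := subsingleton_ext_tensor_free F₀ (HilbObsTh.kdim p) h1
  have h3 : Subsingleton (Ext.{u} ((Scheme.Modules.pullback ξ.i).obj E) W 1) := by
    refine ⟨fun z z' => ?_⟩
    have hc : ∀ z : Ext.{u} ((Scheme.Modules.pullback ξ.i).obj E) W 1, z = 0 := fun z => by
      have : (Ext.mk₀ eE.hom).comp ((Ext.mk₀ eE.inv).comp z (zero_add 1)) (zero_add 1) = z := by
        rw [← Ext.comp_assoc_of_second_deg_zero, Ext.mk₀_comp_mk₀, Iso.hom_inv_id, Ext.mk₀_id_comp]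
      rw [← this, @Subsingleton.elim _ h2 ((Ext.mk₀ eE.inv).comp z (zero_add 1)) 0, Ext.comp_zero]
    rw [hc z, hc z']
  let adj := Scheme.Modules.pullbackPushforwardAdjunction I.subschemeι
  obtain ⟨u, hu⟩ := exists_lift ξ.i hS eW hE h3 (adj.homEquiv E _ (u₀ ≫ φ.hom))
  refine ⟨u, (cancel_mono φ.hom).1 ((adj.homEquiv E _).injective ?_)⟩
  rw [Adjunction.homEquiv_naturality_left]
  exact hu

include hp in
/-- Two vector bundle lifts of the same bundle are isomorphic. -/
theorem nonempty_iso (F : (ξ.baseChange p).total.Modules)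
    [DCoh.HasSheafHom ((Scheme.Modules.pullback (ξ.baseChange p).i).obj F)]
    (hF : FlatMod.IsFinLocFree F)
    (h1 : Subsingleton (Coh.HH X₀ ((DCoh.sheafHom ((Scheme.Modules.pullback (ξ.baseChange p).i).obj F)).obj
      ((Scheme.Modules.pullback (ξ.baseChange p).i).obj F)) 1))
    {F' F'' : ξ.total.Modules} (hF' : FlatMod.IsFinLocFree F') (hF'' : FlatMod.IsFinLocFree F'')
    (e' : (Scheme.Modules.pullback (pullback.fst ξ.f (specMap p))).obj F' ≅ F)
    (e'' : (Scheme.Modules.pullback (pullback.fst ξ.f (specMap p))).obj F'' ≅ F) : Nonempty (F' ≅ F'') := by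
  haveI := isClosedImmersion_ιT p ξ hp
  haveI : EnoughInjectives X₀.Modules := ModSiteLib.sheafOfModules_enoughInjectives (R := X₀.ringCatSheaf)
  haveI : HasExt.{u} X₀.Modules := CategoryTheory.hasExt_of_enoughInjectives _
  let ib := (ξ.baseChange p).i
  let F₀ := (Scheme.Modules.pullback ib).obj F
  have hext : Subsingleton (Ext.{u} F₀ F₀ 1) := by
    obtain ⟨e⟩ := PnDualLib.nonempty_ext_homMod_add (KFlatLib.isFinLocFree_pull ib hF) 1 F₀
    exact (e.trans (PnDualLib.hmIso (HomCohLib.sheafHomIso F₀ F₀) 1).symm).toEquiv.subsingleton_congr.2 h1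
  let c₁ : ∀ M : ξ.total.Modules, (Scheme.Modules.pullback ξ.i).obj M ≅
      (Scheme.Modules.pullback ib).obj ((Scheme.Modules.pullback (pullback.fst ξ.f (specMap p))).obj M) := fun M =>
    (Scheme.Modules.pullbackCongr (DefSch.baseChange_i_fst ξ p).symm).app M ≪≫
      ((Scheme.Modules.pullbackComp ib (pullback.fst ξ.f (specMap p))).app M).symm
  let eE := c₁ F' ≪≫ (Scheme.Modules.pullback ib).mapIso e'
  let eF := c₁ F'' ≪≫ (Scheme.Modules.pullback ib).mapIso e''
  let c₂ : ∀ M : ξ.total.Modules,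
      (Scheme.Modules.pullback (ιT p ξ).toImage).obj ((Scheme.Modules.pullback (idT p ξ).subschemeι).obj M) ≅
        (Scheme.Modules.pullback (ιT p ξ)).obj M := fun M =>
    (Scheme.Modules.pullbackComp (ιT p ξ).toImage (idT p ξ).subschemeι).app M ≪≫
      (Scheme.Modules.pullbackCongr (Scheme.Hom.toImage_imageι (ιT p ξ))).app M
  obtain ⟨e⟩ := nonempty_iso_of_pullback_iso (ιT p ξ).toImage (c₂ F' ≪≫ e' ≪≫ e''.symm ≪≫ (c₂ F'').symm)
  obtain ⟨u, hu⟩ := exists_hom_lift p hp ξ hF' hF'' eE eF hext e.hom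
  obtain ⟨v, hv⟩ := exists_hom_lift p hp ξ hF'' hF' eF eE hext e.inv
  have hI := sq_idT p ξ hp
  haveI := LiftHomLib.isIso_of_pullback_eq_id _ hI hF' (u ≫ v) (by rw [Functor.map_comp, hu, hv, Iso.hom_inv_id])
  haveI := LiftHomLib.isIso_of_pullback_eq_id _ hI hF'' (v ≫ u) (by rw [Functor.map_comp, hu, hv, Iso.inv_hom_id])
  haveI : IsSplitMono u := IsSplitMono.mk' ⟨v ≫ inv (u ≫ v), by rw [← Category.assoc, IsIso.hom_inv_id]⟩
  haveI : Epi u := epi_of_epi v u
  exact ⟨@asIso _ _ _ _ u (isIso_of_mono_of_epi u)⟩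

end LiftThinLib
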